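import Groth.Prelude.Def_LogDiff
import Groth.Prelude.Def_DeRham
import Mathlib

/-!
# The log frame of affine space
-/

set_option autoImplicit false
set_option linter.style.haveILetI false

universe u

noncomputable section

open MvPolynomial

namespace Groth.Agent.LogDR9

variable {R : Type u} [CommRing R] {n r : ℕ} {hr : r ≤ n} {L : Type u} [AddCommGroup L]
  [Module (MvPolynomial (Fin n) R) L]

/-- The coefficient of `D X_ν` on the log frame. -/
def sig (r : ℕ) (ν : Fin n) : MvPolynomial (Fin n) R := if (ν : ℕ) < r then X ν else 1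

/-- The factor carrying `dl` to the Euler field. -/
def tau (r : ℕ) (ν : Fin n) : MvPolynomial (Fin n) R := if (ν : ℕ) < r then 1 else X ν

theorem sig_mul_tau (ν : Fin n) : sig r ν * tau r ν = (X ν : MvPolynomial (Fin n) R) := by
  unfold sig tau
  split <;> simp

/-- The frame. -/
def eps (ι : (Ω[MvPolynomial (Fin n) R⁄R]) →ₗ[MvPolynomial (Fin n) R] L) (dl : Fin r → L) (ν : Fin n) : L :=
  if h : (ν : ℕ) < r then dl ⟨ν, h⟩ else ι (KaehlerDifferential.D R (MvPolynomial (Fin n) R) (X ν))

variable {ι : (Ω[MvPolynomial (Fin n) R⁄R]) →ₗ[MvPolynomial (Fin n) R] L} {dl : Fin r → L}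
  (hL : LogDiff.IsLog (KaehlerDifferential.D R (MvPolynomial (Fin n) R))
    (fun i : Fin r => (X (Fin.castLE hr i) : MvPolynomial (Fin n) R)) ι dl)
include hL

theorem iota_D_X (ν : Fin n) :
    ι (KaehlerDifferential.D R (MvPolynomial (Fin n) R) (X ν)) = (sig r ν : MvPolynomial (Fin n) R) • eps ι dl ν := by
  unfold sig eps
  split_ifs with h
  · exact (hL.1 ⟨ν, h⟩).symm
  · rw [one_smul]

theorem iota_D (b : MvPolynomial (Fin n) R) :
    ι (KaehlerDifferential.D R (MvPolynomial (Fin n) R) b) = ∑ ν, (pderiv ν b * sig r ν) • eps ι dl ν := by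
  conv_lhs => rw [← (KaehlerDifferential.mvPolynomialBasis R (Fin n)).sum_repr
    (KaehlerDifferential.D R (MvPolynomial (Fin n) R) b)]
  rw [map_sum]
  refine Finset.sum_congr rfl fun ν _ => ?_
  rw [map_smul, KaehlerDifferential.mvPolynomialBasis_repr_apply, KaehlerDifferential.mvPolynomialBasis_apply,
    iota_D_X hL, smul_smul]

theorem span_eps : ⊤ ≤ Submodule.span (MvPolynomial (Fin n) R) (Set.range (eps ι dl)) := by
  rw [← hL.2.1, Submodule.span_le]
  rintro _ (⟨ω, rfl⟩ | ⟨i, rfl⟩)
  · rw [SetLike.mem_coe, ← (KaehlerDifferential.mvPolynomialBasis R (Fin n)).sum_repr ω, map_sum]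
    refine Submodule.sum_mem _ fun ν _ => ?_
    rw [map_smul, KaehlerDifferential.mvPolynomialBasis_apply, iota_D_X hL, smul_smul]
    exact Submodule.smul_mem _ _ (Submodule.subset_span ⟨ν, rfl⟩)
  · exact Submodule.subset_span ⟨Fin.castLE hr i, by simp [eps]⟩

theorem li_eps : LinearIndependent (MvPolynomial (Fin n) R) (eps ι dl) := by
  classical
  rw [Fintype.linearIndependent_iff]
  intro c hc
  let F : MvPolynomial (Fin n) R := ∏ i : Fin r, X (Fin.castLE hr i)
  let G : Fin n → MvPolynomial (Fin n) R := fun ν =>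
    if h : (ν : ℕ) < r then ∏ i ∈ Finset.univ.erase (⟨ν, h⟩ : Fin r), X (Fin.castLE hr i) else F
  have hX : ∀ i : Fin n, (X i : MvPolynomial (Fin n) R) ∈ nonZeroDivisors (MvPolynomial (Fin n) R) := fun i => by
    refine mem_nonZeroDivisors_iff_left.2 fun q hq => ?_
    ext m
    have := congrArg (coeff (Finsupp.single i 1 + m)) hq
    rw [coeff_X_mul] at this
    simpa using this
  have hF : F ∈ nonZeroDivisors (MvPolynomial (Fin n) R) := prod_mem fun i _ => hX _
  have hG : ∀ ν, G ν ∈ nonZeroDivisors (MvPolynomial (Fin n) R) := fun ν => by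
    simp only [G]
    split
    · exact prod_mem fun i _ => hX _
    · exact hF
  have hFeps : ∀ ν, F • eps ι dl ν = G ν • ι (KaehlerDifferential.D R (MvPolynomial (Fin n) R) (X ν)) := fun ν => by
    by_cases h : (ν : ℕ) < r
    · simp only [G, dif_pos h]
      rw [iota_D_X hL, smul_smul]
      congr 1
      rw [sig, if_pos h]
      exact (Finset.prod_erase_mul Finset.univ (fun i : Fin r => (X (Fin.castLE hr i) : MvPolynomial (Fin n) R))
        (Finset.mem_univ (⟨ν, h⟩ : Fin r))).symm
    · simp only [G, dif_neg h, eps]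
  let ω : Ω[MvPolynomial (Fin n) R⁄R] := ∑ ν, (c ν * G ν) • KaehlerDifferential.D R (MvPolynomial (Fin n) R) (X ν)
  have hω : ι ω = 0 := by
    rw [map_sum]
    calc ∑ ν, ι ((c ν * G ν) • KaehlerDifferential.D R (MvPolynomial (Fin n) R) (X ν))
        = F • ∑ ν, c ν • eps ι dl ν := by
          rw [Finset.smul_sum]
          exact Finset.sum_congr rfl fun ν _ => by rw [map_smul, smul_comm F, hFeps, smul_smul]
      _ = 0 := by rw [hc, smul_zero]
  obtain ⟨m, hm⟩ := (hL.2.2.2 ω).1 hω
  intro ν
  have := congrArg (fun z => (KaehlerDifferential.mvPolynomialBasis R (Fin n)).repr z ν) hm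
  simp only [ω, Finset.smul_sum, smul_smul, map_sum, map_smul, map_zero, Finsupp.finsetSum_apply,
    Finsupp.smul_apply, KaehlerDifferential.mvPolynomialBasis_repr_apply, Finsupp.coe_zero, Pi.zero_apply,
    pderiv_X, Pi.single_apply, smul_eq_mul, mul_ite, mul_one, mul_zero] at this
  rw [Finset.sum_ite_eq'] at this
  simp only [Finset.mem_univ, if_true] at this
  exact mul_right_mem_nonZeroDivisors_eq_zero_iff (hG ν) |>.1
    (mul_left_mem_nonZeroDivisors_eq_zero_iff (pow_mem hF m) |>.1 this)

/-- The basis given by the frame. -/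
def basis : Module.Basis (Fin n) (MvPolynomial (Fin n) R) L := Module.Basis.mk (li_eps hL) (span_eps hL)

/-- The functional dual to the `μ`-th Euler field. -/
def phi (μ : Fin n) : Module.Dual (MvPolynomial (Fin n) R) L :=
  (tau r μ : MvPolynomial (Fin n) R) • (basis hL).coord μ

theorem phi_eps (μ ν : Fin n) : phi hL μ (eps ι dl ν) = if ν = μ then tau r μ else 0 := by
  have : eps ι dl ν = basis hL ν := by simp [basis]
  rw [this]
  simp [phi, Finsupp.single_apply]

theorem phi_iota_D (μ : Fin n) (b : MvPolynomial (Fin n) R) :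
    phi hL μ (ι (KaehlerDifferential.D R (MvPolynomial (Fin n) R) b)) = X μ * pderiv μ b := by
  rw [iota_D hL, map_sum, Finset.sum_eq_single μ (fun ν _ h => by rw [map_smul, phi_eps, if_neg h, smul_zero])
    (by simp), map_smul, phi_eps, if_pos rfl, smul_eq_mul, mul_assoc, sig_mul_tau, mul_comm]

end Groth.Agent.LogDR9
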