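import Groth.Agent.LogDR9.Frame
import Mathlib

/-!
# Euler fields acting on log forms of affine space
-/

set_option autoImplicit false
set_option linter.style.haveILetI false
set_option maxHeartbeats 1000000

universe u

noncomputable section

open MvPolynomial

namespace Groth.Agent.LogDR9

variable {R : Type u} [CommRing R] {n r : ℕ} {hr : r ≤ n} {L : Type u} [AddCommGroup L]
  [Module (MvPolynomial (Fin n) R) L] [Module R L] [IsScalarTower R (MvPolynomial (Fin n) R) L]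
  {ι : (Ω[MvPolynomial (Fin n) R⁄R]) →ₗ[MvPolynomial (Fin n) R] L} {dl : Fin r → L}
  (hL : LogDiff.IsLog (KaehlerDifferential.D R (MvPolynomial (Fin n) R))
    (fun i : Fin r => (X (Fin.castLE hr i) : MvPolynomial (Fin n) R)) ι dl)

local notation "𝕄" => exteriorPower.ιMulti (MvPolynomial (Fin n) R)
local notation "δ" => fun b => ι (KaehlerDifferential.D R (MvPolynomial (Fin n) R) b)

theorem ιMulti_coe_cons {a : ℕ} (x : L) (v : Fin a → L) :
    ((exteriorPower.ιMulti (MvPolynomial (Fin n) R) (a + 1) (Fin.cons x v) :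
      ↥(⋀[MvPolynomial (Fin n) R]^(a + 1) L)) : ExteriorAlgebra (MvPolynomial (Fin n) R) L) =
      ExteriorAlgebra.ι (MvPolynomial (Fin n) R) x *
        (exteriorPower.ιMulti (MvPolynomial (Fin n) R) a v : ↥(⋀[MvPolynomial (Fin n) R]^a L)) := by
  rw [exteriorPower.ιMulti_apply_coe, exteriorPower.ιMulti_apply_coe, ExteriorAlgebra.ιMulti_succ_apply]
  rfl

theorem contract_mem (f : Module.Dual (MvPolynomial (Fin n) R) L) :
    ∀ (a : ℕ) {x : ExteriorAlgebra (MvPolynomial (Fin n) R) L}, x ∈ ⋀[MvPolynomial (Fin n) R]^(a + 1) L →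
      CliffordAlgebra.contractLeft f x ∈ ⋀[MvPolynomial (Fin n) R]^a L := by
  intro a
  induction a with
  | zero =>
    intro x hx
    rw [ExteriorAlgebra.exteriorPower, zero_add, pow_one] at hx
    obtain ⟨m, rfl⟩ := hx
    show CliffordAlgebra.contractLeft f (CliffordAlgebra.ι _ m) ∈ _
    rw [CliffordAlgebra.contractLeft_ι, ExteriorAlgebra.exteriorPower, pow_zero]
    exact Submodule.mem_one.2 ⟨_, rfl⟩
  | succ a ih =>
    intro x hx
    rw [ExteriorAlgebra.exteriorPower, pow_succ'] at hx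
    induction hx using Submodule.mul_induction_on' with
    | mem_mul_mem y hy z hz =>
      obtain ⟨y, rfl⟩ := hy
      show CliffordAlgebra.contractLeft f (CliffordAlgebra.ι _ y * z) ∈ _
      rw [CliffordAlgebra.contractLeft_ι_mul]
      refine sub_mem (Submodule.smul_mem _ _ hz) ?_
      rw [ExteriorAlgebra.exteriorPower, pow_succ']
      exact Submodule.mul_mem_mul ⟨y, rfl⟩ (ih hz)
    | add y _ z _ hy hz => rw [map_add]; exact add_mem hy hz

/-- Contraction. -/
def cont (f : Module.Dual (MvPolynomial (Fin n) R) L) (a : ℕ) :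
    ↥(⋀[MvPolynomial (Fin n) R]^(a + 1) L) →ₗ[MvPolynomial (Fin n) R] ↥(⋀[MvPolynomial (Fin n) R]^a L) :=
  (CliffordAlgebra.contractLeft (Q := (0 : QuadraticForm (MvPolynomial (Fin n) R) L)) f).restrict
    fun _ hx => contract_mem f a hx

theorem cont_cons (f : Module.Dual (MvPolynomial (Fin n) R) L) {a : ℕ} (x : L) (v : Fin a → L) :
    ((cont f a (𝕄 (a + 1) (Fin.cons x v)) : ↥(⋀[MvPolynomial (Fin n) R]^a L)) :
        ExteriorAlgebra (MvPolynomial (Fin n) R) L) =
      f x • (𝕄 a v : ↥(⋀[MvPolynomial (Fin n) R]^a L)) -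
        ExteriorAlgebra.ι (MvPolynomial (Fin n) R) x *
          CliffordAlgebra.contractLeft f ((𝕄 a v : ↥(⋀[MvPolynomial (Fin n) R]^a L)) :
            ExteriorAlgebra (MvPolynomial (Fin n) R) L) := by
  show CliffordAlgebra.contractLeft f
    ((exteriorPower.ιMulti (MvPolynomial (Fin n) R) (a + 1) (Fin.cons x v) :
      ↥(⋀[MvPolynomial (Fin n) R]^(a + 1) L)) : ExteriorAlgebra (MvPolynomial (Fin n) R) L) = _
  rw [ιMulti_coe_cons]
  exact CliffordAlgebra.contractLeft_ι_mul f x _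

variable (d : ∀ q : ℕ, ↥(⋀[MvPolynomial (Fin n) R]^q L) →ₗ[R] ↥(⋀[MvPolynomial (Fin n) R]^(q + 1) L))

/-- The Lie derivative along the `μ`-th Euler field. -/
def lie (μ : Fin n) : ∀ a, ↥(⋀[MvPolynomial (Fin n) R]^a L) →ₗ[R] ↥(⋀[MvPolynomial (Fin n) R]^a L)
  | 0 => (cont (phi hL μ) 0).restrictScalars R ∘ₗ d 0
  | a + 1 => d a ∘ₗ (cont (phi hL μ) a).restrictScalars R + (cont (phi hL μ) (a + 1)).restrictScalars R ∘ₗ d (a + 1)

theorem contract_eq_zero (μ : Fin n) : ∀ {a : ℕ} (j : Fin a → Fin n), (∀ k, j k ≠ μ) →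
    CliffordAlgebra.contractLeft (phi hL μ)
      ((𝕄 a (eps ι dl ∘ j) : ↥(⋀[MvPolynomial (Fin n) R]^a L)) : ExteriorAlgebra (MvPolynomial (Fin n) R) L) = 0
  | 0, j, _ => by
    rw [exteriorPower.ιMulti_apply_coe, ExteriorAlgebra.ιMulti_zero_apply]
    exact CliffordAlgebra.contractLeft_one (Q := (0 : QuadraticForm (MvPolynomial (Fin n) R) L)) _
  | a + 1, j, h => by
    have : eps ι dl ∘ j = Fin.cons (eps ι dl (j 0)) (eps ι dl ∘ fun k => j k.succ) := by
      funext k; refine Fin.cases ?_ (fun k => ?_) k <;> rfl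
    rw [this]
    refine (cont_cons (phi hL μ) _ _).trans ?_
    rw [contract_eq_zero μ (fun k => j k.succ) (fun k => h k.succ), phi_eps, if_neg (h 0), zero_smul, mul_zero,
      sub_zero]

variable (hlog : LogDiff.IsLogRule (KaehlerDifferential.D R (MvPolynomial (Fin n) R)) ι dl d)
include hlog

theorem d_gen {a : ℕ} (b : MvPolynomial (Fin n) R) (j : Fin a → Fin n) :
    d a (b • 𝕄 a (eps ι dl ∘ j)) =
      𝕄 (a + 1) (Fin.cons (ι (KaehlerDifferential.D R (MvPolynomial (Fin n) R) b)) (eps ι dl ∘ j)) :=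
  hlog a b (eps ι dl ∘ j) fun k => by
    by_cases h : ((j k : Fin n) : ℕ) < r
    · exact Or.inr ⟨⟨j k, h⟩, by simp [eps, h]⟩
    · exact Or.inl ⟨X (j k), by simp [eps, h]⟩

omit hlog in
theorem theta_monomial (μ : Fin n) (e : Fin n →₀ ℕ) (c : R) :
    X μ * pderiv μ (monomial e c) = (e μ : ℕ) • monomial e c := by
  rw [pderiv_monomial]
  rcases Nat.eq_zero_or_pos (e μ) with h | h
  · simp [h]
  · rw [X, monomial_mul, one_mul, add_tsub_cancel_of_le (Finsupp.single_le_iff.2 h), ← map_nsmul, nsmul_eq_mul,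
      mul_comm]

omit hlog in
/-- The shift of the weight. -/
def chi (r : ℕ) {a : ℕ} (μ : Fin n) (j : Fin a → Fin n) : ℕ :=
  if μ ∈ Finset.univ.image j ∧ r ≤ (μ : ℕ) then 1 else 0

theorem lie_gen (μ : Fin n) {a : ℕ} (j : Fin a → Fin n) (e : Fin n →₀ ℕ) (c : R) :
    lie hL d μ a (monomial e c • 𝕄 a (eps ι dl ∘ j)) =
      (e μ + chi r μ j) • (monomial e c • 𝕄 a (eps ι dl ∘ j)) := by
  classical
  by_cases hj : Function.Injective j
  swap
  · obtain ⟨i₁, i₂, h12, hne⟩ := Function.not_injective_iff.1 hj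
    rw [(𝕄 a).map_eq_zero_of_eq _ (by simp [h12]) hne, smul_zero, map_zero, smul_zero]
  set b := monomial e c with hb
  have hθ : phi hL μ (ι (KaehlerDifferential.D R (MvPolynomial (Fin n) R) b)) = (e μ : ℕ) • b := by
    rw [phi_iota_D, hb, theta_monomial]
  -- when `μ` does not occur
  have hout : (∀ k, j k ≠ μ) → cont (phi hL μ) a (d a (b • 𝕄 a (eps ι dl ∘ j))) =
      (e μ + chi r μ j) • (b • 𝕄 a (eps ι dl ∘ j)) := fun h => by
    refine Subtype.ext ?_
    rw [d_gen d hlog, cont_cons, contract_eq_zero hL μ j h, mul_zero, sub_zero, hθ]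
    have : chi r μ j = 0 := if_neg fun h' => (Finset.mem_image.1 h'.1).elim fun k hk => h k hk.2
    rw [this, add_zero, smul_assoc]
    rfl
  rcases a with _ | a
  · exact hout fun k => k.elim0
  by_cases hμ : ∃ k, j k = μ
  swap
  · push Not at hμ
    show d a (cont (phi hL μ) a _) + cont (phi hL μ) (a + 1) (d (a + 1) _) = _
    rw [hout hμ, map_smul, show cont (phi hL μ) a (𝕄 (a + 1) (eps ι dl ∘ j)) = 0 from
      Subtype.ext (contract_eq_zero hL μ j hμ), smul_zero, map_zero, zero_add]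
  have hfirst : ∀ j : Fin (a + 1) → Fin n, Function.Injective j → j 0 = μ →
      lie hL d μ (a + 1) (b • 𝕄 (a + 1) (eps ι dl ∘ j)) = (e μ + chi r μ j) • (b • 𝕄 (a + 1) (eps ι dl ∘ j)) := by
    intro j hj h0
    let v : Fin a → Fin n := fun k => j k.succ
    have hv : ∀ k, v k ≠ μ := fun k h => Fin.succ_ne_zero k (hj (h.trans h0.symm))
    have hjv : eps ι dl ∘ j = Fin.cons (eps ι dl μ) (eps ι dl ∘ v) := by
      funext k; refine Fin.cases ?_ (fun k => ?_) k
      · simp [h0]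
      · rfl
    have hc : cont (phi hL μ) a (𝕄 (a + 1) (eps ι dl ∘ j)) = (tau r μ : MvPolynomial (Fin n) R) • 𝕄 a (eps ι dl ∘ v) := by
      refine Subtype.ext ?_
      rw [hjv, cont_cons, contract_eq_zero hL μ v hv, mul_zero, sub_zero, phi_eps, if_pos rfl]
      rfl
    have hτ : ι (KaehlerDifferential.D R (MvPolynomial (Fin n) R) (tau r μ : MvPolynomial (Fin n) R)) =
        (chi r μ j : ℕ) • eps ι dl μ := by
      unfold tau chi eps
      by_cases h : (μ : ℕ) < r
      · rw [if_pos h, if_neg (fun h' => absurd h'.2 (not_le_of_gt h)), Derivation.map_one_eq_zero, map_zero, zero_smul]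
      · rw [if_neg h, if_pos ⟨Finset.mem_image.2 ⟨0, Finset.mem_univ _, h0⟩, not_lt.1 h⟩, one_smul, dif_neg h]
    have hd : d a (cont (phi hL μ) a (b • 𝕄 (a + 1) (eps ι dl ∘ j))) =
        (tau r μ : MvPolynomial (Fin n) R) • 𝕄 (a + 1) (Fin.cons (ι (KaehlerDifferential.D R (MvPolynomial (Fin n) R) b)) (eps ι dl ∘ v)) +
          (chi r μ j : ℕ) • (b • 𝕄 (a + 1) (eps ι dl ∘ j)) := by
      rw [map_smul, hc, smul_smul, d_gen d hlog, hjv, Derivation.leibniz, map_add, map_smul, map_smul, hτ]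
      erw [AlternatingMap.map_vecCons_add, AlternatingMap.map_vecCons_smul, AlternatingMap.map_vecCons_smul]
      rw [smul_comm (chi r μ j) b, ← Nat.cast_smul_eq_nsmul (MvPolynomial (Fin n) R) (chi r μ j) (eps ι dl μ)]
      erw [AlternatingMap.map_vecCons_smul]
      rw [Nat.cast_smul_eq_nsmul]
      exact add_comm _ _
    have hcd : cont (phi hL μ) (a + 1) (d (a + 1) (b • 𝕄 (a + 1) (eps ι dl ∘ j))) =
        (e μ : ℕ) • (b • 𝕄 (a + 1) (eps ι dl ∘ j)) -
          (tau r μ : MvPolynomial (Fin n) R) • 𝕄 (a + 1) (Fin.cons (ι (KaehlerDifferential.D R (MvPolynomial (Fin n) R) b)) (eps ι dl ∘ v)) := by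
      refine Subtype.ext ?_
      rw [d_gen d hlog, cont_cons, hθ,
        show CliffordAlgebra.contractLeft (phi hL μ)
          ((𝕄 (a + 1) (eps ι dl ∘ j) : ↥(⋀[MvPolynomial (Fin n) R]^(a + 1) L)) :
            ExteriorAlgebra (MvPolynomial (Fin n) R) L) = _ from congrArg Subtype.val hc]
      rw [Submodule.coe_smul, mul_smul_comm, ← ιMulti_coe_cons, smul_assoc]
      rfl
    show d a (cont (phi hL μ) a _) + cont (phi hL μ) (a + 1) (d (a + 1) _) = _
    rw [hd, hcd, add_smul]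
    abel
  obtain ⟨k, hk⟩ := hμ
  by_cases hk0 : k = 0
  · exact hfirst j hj (hk0 ▸ hk)
  have hsw : eps ι dl ∘ j = (eps ι dl ∘ (j ∘ Equiv.swap 0 k)) ∘ Equiv.swap 0 k := by
    funext i; simp
  have hchi : chi r μ j = chi r μ (j ∘ Equiv.swap 0 k) := by
    unfold chi
    refine if_congr (and_congr_left fun _ => ⟨fun _ => Finset.mem_image.2 ⟨0, Finset.mem_univ _, ?_⟩,
      fun _ => Finset.mem_image.2 ⟨k, Finset.mem_univ _, hk⟩⟩) rfl rfl
    simp [hk]
  rw [hsw, (𝕄 (a + 1)).map_swap _ (Ne.symm hk0), smul_neg, map_neg,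
    hfirst _ (hj.comp (Equiv.swap 0 k).injective) (by simp [hk]), hchi, smul_neg]

end Groth.Agent.LogDR9
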