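import Groth.Agent.LogDR9.Lie
import Mathlib

/-!
# The projector onto weights divisible by the characteristic
-/

set_option autoImplicit false
set_option linter.style.haveILetI false
set_option maxHeartbeats 1000000

universe u

noncomputable section

open MvPolynomial

namespace Groth.Agent.LogDR9

variable {R : Type u} [CommRing R] {n r : ℕ} {hr : r ≤ n} {L : Type u} [AddCommGroup L]
  [Module (MvPolynomial (Fin n) R) L] [Module R L] [IsScalarTower R (MvPolynomial (Fin n) R) L]
  {ι : (Ω[MvPolynomial (Fin n) R⁄R]) →ₗ[MvPolynomial (Fin n) R] L} {dl : Fin r → L}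
  (hL : LogDiff.IsLog (KaehlerDifferential.D R (MvPolynomial (Fin n) R))
    (fun i : Fin r => (X (Fin.castLE hr i) : MvPolynomial (Fin n) R)) ι dl)
  (d : ∀ q : ℕ, ↥(⋀[MvPolynomial (Fin n) R]^q L) →ₗ[R] ↥(⋀[MvPolynomial (Fin n) R]^(q + 1) L))
  (p : ℕ)

local notation "𝕄" => exteriorPower.ιMulti (MvPolynomial (Fin n) R)

/-- The projector attached to a list of variables. -/
def proj : List (Fin n) → ∀ a, ↥(⋀[MvPolynomial (Fin n) R]^a L) →ₗ[R] ↥(⋀[MvPolynomial (Fin n) R]^a L)
  | [], _ => LinearMap.id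
  | μ :: l, a => (LinearMap.id - (lie hL d μ a) ^ (p - 1)) ∘ₗ proj l a

theorem gen_induction {a : ℕ} {motive : ↥(⋀[MvPolynomial (Fin n) R]^a L) → Prop} (h0 : motive 0)
    (hadd : ∀ x y, motive x → motive y → motive (x + y))
    (hgen : ∀ (e : Fin n →₀ ℕ) (c : R) (j : Fin a → Fin n), motive (monomial e c • 𝕄 a (eps ι dl ∘ j)))
    (hL : LogDiff.IsLog (KaehlerDifferential.D R (MvPolynomial (Fin n) R))
      (fun i : Fin r => (X (Fin.castLE hr i) : MvPolynomial (Fin n) R)) ι dl)
    (z : ↥(⋀[MvPolynomial (Fin n) R]^a L)) : motive z := by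
  have hz : z ∈ Submodule.span (MvPolynomial (Fin n) R)
      (exteriorPower.ιMulti (MvPolynomial (Fin n) R) a '' {v | Set.range v ⊆ Set.range (eps ι dl)}) := by
    rw [exteriorPower.ιMulti_span_of_span (MvPolynomial (Fin n) R) a L (top_le_iff.1 (span_eps hL))]
    exact Submodule.mem_top
  suffices H : ∀ b : MvPolynomial (Fin n) R, motive (b • z) by simpa using H 1
  induction hz using Submodule.span_induction with
  | mem z hz =>
    obtain ⟨v, hv, rfl⟩ := hz
    choose j hj using fun k => hv ⟨k, rfl⟩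
    obtain rfl : v = eps ι dl ∘ j := funext fun k => (hj k).symm
    intro b
    induction b using MvPolynomial.induction_on' with
    | monomial e c => exact hgen e c j
    | add b b' hb hb' => rw [add_smul]; exact hadd _ _ hb hb'
  | zero => intro b; rw [smul_zero]; exact h0
  | add x y _ _ hx hy => intro b; rw [smul_add]; exact hadd _ _ (hx b) (hy b)
  | smul c x _ hx => intro b; rw [smul_smul]; exact hx _

/-- Weights divisible by `p`. -/
def Good (r p : ℕ) {a : ℕ} (e : Fin n →₀ ℕ) (j : Fin a → Fin n) : Prop := ∀ μ, p ∣ e μ + chi r μ j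

variable (hlog : LogDiff.IsLogRule (KaehlerDifferential.D R (MvPolynomial (Fin n) R)) ι dl d)
  [hp : Fact p.Prime] [CharP R p]

omit hp in
include hL hlog in
theorem d_good {a : ℕ} (e : Fin n →₀ ℕ) (c : R) (j : Fin a → Fin n) (hg : Good r p e j) :
    d a (monomial e c • 𝕄 a (eps ι dl ∘ j)) = 0 := by
  classical
  rw [d_gen d hlog, iota_D hL]
  show (𝕄 (a + 1)) (Matrix.vecCons (∑ ν, (pderiv ν (monomial e c) * sig r ν) • eps ι dl ν) (eps ι dl ∘ j)) = 0
  have hsum : ∀ (s : Finset (Fin n)) (x : Fin n → L),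
      (𝕄 (a + 1)) (Matrix.vecCons (∑ ν ∈ s, x ν) (eps ι dl ∘ j)) =
        ∑ ν ∈ s, (𝕄 (a + 1)) (Matrix.vecCons (x ν) (eps ι dl ∘ j)) := fun s x => by
    induction s using Finset.induction_on with
    | empty => simpa using (𝕄 (a + 1)).map_coord_zero (m := Matrix.vecCons (0 : L) (eps ι dl ∘ j)) 0 (by simp)
    | insert i s hi ih => rw [Finset.sum_insert hi, Finset.sum_insert hi, AlternatingMap.map_vecCons_add, ih]
  rw [hsum]
  refine Finset.sum_eq_zero fun ν _ => ?_
  rw [AlternatingMap.map_vecCons_smul]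
  by_cases hν : ν ∈ Finset.univ.image j
  · obtain ⟨k, -, rfl⟩ := Finset.mem_image.1 hν
    rw [(𝕄 (a + 1)).map_eq_zero_of_eq _ (i := 0) (j := k.succ) (by simp) (Fin.succ_ne_zero k).symm, smul_zero]
  · have h0 : chi r ν j = 0 := if_neg fun h => hν h.1
    have : (e ν : R) = 0 := (CharP.cast_eq_zero_iff R p _).2 (by simpa [h0] using hg ν)
    rw [pderiv_monomial, this, mul_zero, map_zero, zero_mul, zero_smul]

include hlog hp in
open Classical in
theorem proj_gen (l : List (Fin n)) {a : ℕ} (e : Fin n →₀ ℕ) (c : R) (j : Fin a → Fin n) :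
    proj hL d p l a (monomial e c • 𝕄 a (eps ι dl ∘ j)) =
      if ∀ μ ∈ l, p ∣ e μ + chi r μ j then monomial e c • 𝕄 a (eps ι dl ∘ j) else 0 := by
  classical
  set x := monomial e c • 𝕄 a (eps ι dl ∘ j) with hx
  have hpow : ∀ μ (k : ℕ), ((lie hL d μ a) ^ k) x = ((e μ + chi r μ j) ^ k) • x := by
    intro μ k
    induction k with
    | zero => simp
    | succ k ih =>
      rw [pow_succ', Module.End.mul_apply, ih, map_nsmul, hx, lie_gen hL d hlog, smul_smul, ← pow_succ]
  induction l with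
  | nil => simp [proj]
  | cons μ l ih =>
    show proj hL d p l a x - ((lie hL d μ a) ^ (p - 1)) (proj hL d p l a x) = _
    rw [ih]
    by_cases hl : ∀ ν ∈ l, p ∣ e ν + chi r ν j
    · rw [if_pos hl, hpow]
      by_cases hμ : p ∣ e μ + chi r μ j
      · rw [if_pos ((List.forall_mem_cons (p := fun ν => p ∣ e ν + chi r ν j)).2 ⟨hμ, hl⟩), ← Nat.cast_smul_eq_nsmul R, Nat.cast_pow,
          (CharP.cast_eq_zero_iff R p _).2 hμ, zero_pow (Nat.sub_ne_zero_of_lt hp.out.one_lt), zero_smul, sub_zero]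
      · rw [if_neg fun h => hμ (h μ (List.mem_cons_self)), ← Nat.cast_smul_eq_nsmul R]
        have h1 : ((e μ + chi r μ j : ℕ) : ZMod p) ^ (p - 1) = 1 :=
          ZMod.pow_card_sub_one_eq_one fun h => hμ ((ZMod.natCast_eq_zero_iff _ _).1 h)
        have h2 := congrArg (ZMod.castHom (dvd_refl p) R) h1
        rw [map_pow, map_natCast, map_one] at h2
        rw [Nat.cast_pow, h2, one_smul, sub_self]
    · rw [if_neg hl, map_zero, sub_self, if_neg fun h => hl fun ν hν => h ν (List.mem_cons_of_mem _ hν)]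

variable (hd2 : ∀ q : ℕ, d (q + 1) ∘ₗ d q = 0)
include hd2

omit hp [CharP R p] in
theorem d_lie (μ : Fin n) (a : ℕ) (x : ↥(⋀[MvPolynomial (Fin n) R]^a L)) :
    d a (lie hL d μ a x) = lie hL d μ (a + 1) (d a x) := by
  have h2 : ∀ q y, d (q + 1) (d q y) = 0 := fun q y => DFunLike.congr_fun (hd2 q) y
  cases a with
  | zero =>
    show d 0 _ = d 0 _ + cont (phi hL μ) 1 (d 1 (d 0 x))
    rw [h2, map_zero, add_zero]
    rfl
  | succ a =>
    show d (a + 1) (d a _ + cont (phi hL μ) (a + 1) (d (a + 1) x)) =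
      d (a + 1) (cont (phi hL μ) (a + 1) (d (a + 1) x)) + cont (phi hL μ) (a + 2) (d (a + 2) (d (a + 1) x))
    rw [map_add, h2, h2, map_zero, zero_add, add_zero]

omit hp [CharP R p] in
theorem d_lie_pow (μ : Fin n) (a k : ℕ) (x : ↥(⋀[MvPolynomial (Fin n) R]^a L)) :
    d a (((lie hL d μ a) ^ k) x) = ((lie hL d μ (a + 1)) ^ k) (d a x) := by
  induction k with
  | zero => rfl
  | succ k ih => rw [pow_succ', pow_succ', Module.End.mul_apply, Module.End.mul_apply, d_lie hL d hd2, ih]

omit hp [CharP R p] in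
theorem d_proj (l : List (Fin n)) (a : ℕ) (x : ↥(⋀[MvPolynomial (Fin n) R]^a L)) :
    d a (proj hL d p l a x) = proj hL d p l (a + 1) (d a x) := by
  induction l with
  | nil => rfl
  | cons μ l ih =>
    show d a (proj hL d p l a x - ((lie hL d μ a) ^ (p - 1)) (proj hL d p l a x)) = _
    rw [map_sub, d_lie_pow hL d hd2, ih]
    rfl

omit [CharP R p] in
include hp in
theorem sub_proj_mem (l : List (Fin n)) {a : ℕ} (z : ↥(⋀[MvPolynomial (Fin n) R]^a L)) (hz : d a z = 0) :
    z - proj hL d p l a z ∈ DeRham.coboundaries d a := by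
  induction l with
  | nil => simp [proj]
  | cons μ l ih =>
    show z - (proj hL d p l a z - ((lie hL d μ a) ^ (p - 1)) (proj hL d p l a z)) ∈ _
    rw [← sub_add]
    refine add_mem ih ?_
    obtain ⟨k, hk⟩ : ∃ k, p - 1 = k + 1 := ⟨p - 2, by have := hp.out.two_le; omega⟩
    rw [hk, pow_succ', Module.End.mul_apply]
    set y := ((lie hL d μ a) ^ k) (proj hL d p l a z) with hy
    have hy0 : d a y = 0 := by rw [hy, d_lie_pow hL d hd2, d_proj hL d p hd2, hz, map_zero, map_zero]
    cases a with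
    | zero =>
      show cont (phi hL μ) 0 (d 0 y) ∈ _
      rw [hy0, map_zero]
      exact zero_mem _
    | succ a =>
      show d a (cont (phi hL μ) a y) + cont (phi hL μ) (a + 1) (d (a + 1) y) ∈ _
      rw [hy0, map_zero, add_zero]
      exact ⟨_, rfl⟩

end Groth.Agent.LogDR9
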